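import Cfsg.Agent.H987.PSq.WIrr
import Cfsg.Agent.H477.HC.RowSp
import Cfsg.Agent.H33.IM

/-!
# The unipotent cuspidal character of `Sp_4(q)`, of degree `q (q - 1) ^ 2 / 2` (helper987, S4844)

`exists_theta` : every `q`. `im_psp_two` : `PSp_4(q)` has an irreducible degree divisible by `r ^ 2`, `r` an odd prime
divisor of `q - 1`.
-/

set_option autoImplicit false

namespace Cfsg.Agent.H987.PSq

open Matrix Cfsg Cfsg.Agent.H33 Cfsg.Agent.Characters
open scoped ComplexConjugate ComplexOrder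

universe u

theorem exists_QD (F : Type u) [Field F] [Finite F] : ∃ (E : Type) (_ : Field E) (_ : Fintype E) (_ : Algebra F E)
    (Q : QD F E), Nat.card E = Nat.card F ^ 2 ∧ ∀ z, Q.σ z = z ^ Nat.card F := by
  classical
  obtain ⟨E, _, hfin, _, hE⟩ := H477.HC.exists_L F 2 two_pos
  let _ : Fintype E := Fintype.ofFinite E
  let _ : Fintype F := Fintype.ofFinite F
  have hq : Nat.card F = Fintype.card F := Nat.card_eq_fintype_card
  have hcE : Nat.card E = Nat.card F ^ 2 := by
    rw [Module.natCard_eq_pow_finrank (K := F) (V := E), hE]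
  have hcE' : Fintype.card E = Fintype.card F ^ 2 := by
    rw [← Nat.card_eq_fintype_card, hcE, hq]
  have h2 : 2 ≤ Fintype.card F := Fintype.one_lt_card
  have hinv : ∀ z : E, (z ^ Fintype.card F) ^ Fintype.card F = z := by
    intro z
    rw [← pow_mul, ← pow_two, ← hcE', FiniteField.pow_card]
  have hfixF : ∀ a : F, (algebraMap F E a) ^ Fintype.card F = algebraMap F E a := by
    intro a
    rw [← map_pow, FiniteField.pow_card]
  have hfix : ∀ z : E, z ^ Fintype.card F = z → ∃ a : F, algebraMap F E a = z := by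
    intro z hz
    let P : Polynomial E := Polynomial.X ^ Fintype.card F - Polynomial.X
    have hP0 : P ≠ 0 := FiniteField.X_pow_card_sub_X_ne_zero E h2
    have hPd : P.natDegree = Fintype.card F := FiniteField.X_pow_card_sub_X_natDegree_eq E h2
    have hroot : ∀ w : E, w ∈ P.roots.toFinset ↔ w ^ Fintype.card F = w := by
      intro w
      rw [Multiset.mem_toFinset, Polynomial.mem_roots hP0, Polynomial.IsRoot.def]
      simp only [P, Polynomial.eval_sub, Polynomial.eval_pow, Polynomial.eval_X, sub_eq_zero]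
    have hsub : Finset.univ.image (algebraMap F E) ⊆ P.roots.toFinset := by
      intro w hw
      rw [Finset.mem_image] at hw
      obtain ⟨a, -, rfl⟩ := hw
      rw [hroot]
      exact hfixF a
    have hcard : P.roots.toFinset.card ≤ (Finset.univ.image (algebraMap F E)).card := by
      rw [Finset.card_image_of_injective _ (algebraMap F E).injective, Finset.card_univ]
      calc P.roots.toFinset.card ≤ Multiset.card P.roots := Multiset.toFinset_card_le _
        _ ≤ P.natDegree := Polynomial.card_roots' P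
        _ = _ := hPd
    have heq := Finset.eq_of_subset_of_card_le hsub hcard
    have hz' : z ∈ Finset.univ.image (algebraMap F E) := by
      rw [heq, hroot]; exact hz
    rw [Finset.mem_image] at hz'
    obtain ⟨a, -, ha⟩ := hz'
    exact ⟨a, ha⟩
  obtain ⟨ψ, hψ⟩ : ∃ ψ : AddChar E ℂ, ψ (1 : E) ≠ 1 := AddChar.exists_apply_ne_zero.2 one_ne_zero
  refine ⟨E, inferInstance, inferInstance, inferInstance,
    { σ := (FiniteField.frobeniusAlgHom F E : E →+* E)
      inv := hinv
      fixF := hfixF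
      fix := hfix
      ne := ?_
      χ := ψ
      ntriv := ⟨1, by rw [map_one]; exact hψ⟩ }, hcE, fun z => ?_⟩
  · by_contra h
    push Not at h
    have hsurj : Function.Surjective (algebraMap F E) := fun z => hfix z (h z)
    have h3 := Fintype.card_le_of_surjective _ hsurj
    rw [hcE'] at h3
    nlinarith
  · change z ^ Fintype.card F = z ^ Nat.card F
    rw [hq]

theorem card_U {F : Type u} [Field F] [Finite F] {E : Type} [Field E] [Fintype E] [DecidableEq E] [Algebra F E]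
    (Q : QD F E) (hE : Nat.card E = Nat.card F ^ 2) (hσ : ∀ z, Q.σ z = z ^ Nat.card F) :
    Fintype.card Q.U = Nat.card F + 1 := by
  have h2 : 2 ≤ Nat.card F := Finite.one_lt_card
  have h1 : Q.U = (powMonoidHom (Nat.card F + 1) : Eˣ →* Eˣ).ker := by
    ext u
    rw [Q.mem_U, MonoidHom.mem_ker, powMonoidHom_apply, hσ, ← pow_succ', Units.ext_iff, Units.val_pow_eq_pow_val,
      Units.val_one]
  rw [← Nat.card_eq_fintype_card, h1, IsCyclic.card_powMonoidHom_ker, Nat.card_units, hE]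
  have h3 : Nat.card F ^ 2 - 1 = (Nat.card F + 1) * (Nat.card F - 1) := by
    have := Nat.sq_sub_sq (Nat.card F) 1
    rwa [one_pow] at this
  rw [h3]
  exact Nat.gcd_eq_right (Dvd.intro _ rfl)

theorem exists_zeta {F : Type u} [Field F] [Finite F] {E : Type} [Field E] [Fintype E] [DecidableEq E] [Algebra F E]
    (Q : QD F E) (hE : Nat.card E = Nat.card F ^ 2) (hσ : ∀ z, Q.σ z = z ^ Nat.card F) :
    ∃ ζ : Eˣ →* ℂˣ, (∃ u ∈ Q.U, ζ u ≠ 1) ∧ ζ (-1) = 1 := by
  have hU := card_U Q hE hσ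
  have h2 : 2 ≤ Nat.card F := Finite.one_lt_card
  obtain ⟨u, hu, hu2⟩ : ∃ u ∈ Q.U, u ^ 2 ≠ 1 := by
    by_contra h
    push Not at h
    have hsub : ∀ u : Q.U, ((u : Eˣ)) ∈ ({1, -1} : Finset Eˣ) := by
      intro u
      rw [Finset.mem_insert, Finset.mem_singleton]
      have h5 : (((u : Eˣ) : E)) ^ 2 = 1 := by
        rw [← Units.val_pow_eq_pow_val, h u u.2, Units.val_one]
      rcases mul_self_eq_one_iff.1 ((pow_two _).symm.trans h5) with h6 | h6
      · left; exact Units.ext h6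
      · right; exact Units.ext (by rw [h6, Units.val_neg, Units.val_one])
    have h3 : Fintype.card Q.U ≤ ({1, -1} : Finset Eˣ).card := by
      rw [← Finset.card_univ]
      exact Finset.card_le_card_of_injOn (fun u : Q.U => (u : Eˣ)) (fun u _ => hsub u)
        (fun a _ b _ hab => Subtype.ext hab)
    have h4 : ({1, -1} : Finset Eˣ).card ≤ 2 := Finset.card_le_two
    omega
  have hne : NeZero ((Monoid.exponent Eˣ : ℕ) : ℂ) := ⟨by
    exact_mod_cast (Monoid.exponent_ne_zero_of_finite (G := Eˣ))⟩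
  obtain ⟨η, hη⟩ := CommGroup.exists_apply_ne_one_of_hasEnoughRootsOfUnity Eˣ ℂ hu2
  refine ⟨η ^ 2, ⟨u, hu, ?_⟩, ?_⟩
  · rw [MonoidHom.pow_apply, ← map_pow]
    exact hη
  · rw [MonoidHom.pow_apply, ← map_pow, neg_one_sq, map_one]

attribute [local instance] act

/-- **The character `θ₁₀`.** -/
theorem exists_theta (F : Type u) [Field F] [Finite F] :
    ∃ χ : Matrix.symplecticGroup (Fin 2) F → ℂ, IsIrrCharacter _ χ ∧
      2 * ((Nat.card F + 1 : ℕ) : ℂ) * χ 1 = (Nat.card (GL (Fin 2) F) : ℂ) ∧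
      ∀ z : Matrix.symplecticGroup (Fin 2) F, ((z : Matrix (Fin 2 ⊕ Fin 2) (Fin 2 ⊕ Fin 2) F) = 1 ∨
        (z : Matrix (Fin 2 ⊕ Fin 2) (Fin 2 ⊕ Fin 2) F) = -1) → χ z = χ 1 := by
  classical
  obtain ⟨E, _, _, _, Q, hE, hσ⟩ := exists_QD F
  obtain ⟨ζ, hζ, hζ1⟩ := exists_zeta Q hE hσ
  have hU := card_U Q hE hσ
  have hU1 : (-1 : Eˣ) ∈ Q.U := by
    rw [Q.mem_U, Units.val_neg, Units.val_one, map_neg, map_one, neg_mul_neg, one_mul]
  have htr := Q.trace_eS (F := F)
  have hne : Q.eS ≠ 0 := by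
    intro h
    rw [h, Matrix.trace_zero, mul_zero] at htr
    have h1 : (Nat.card (GL (Fin 2) F) : ℂ) ≠ 0 := by exact_mod_cast Nat.card_pos.ne'
    exact h1 htr.symm
  have hirr := WD.isIrr (H := Q.wd hζ) Q.he (Q.hP hζ) (A := Q.eS) (Q.eS_comm hζ) Q.eS_sq hne (Q.hirr hζ)
  refine ⟨_, hirr, ?_, ?_⟩
  · rw [WD.om_one (H := Q.wd hζ) Q.he (Q.hP hζ), one_mul, ← hU]
    exact htr
  · intro z hz
    have hT : (Q.wd hζ).om z * Q.eS = Q.eS := by
      rcases hz with hz | hz
      · have h1 : z = 1 := Subtype.ext hz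
        rw [h1, WD.om_one (H := Q.wd hζ) Q.he (Q.hP hζ), one_mul]
      · have h1 : (Q.wd hζ).om z = QD.T (-1 : Eˣ) := by
          refine WD.om_eq (H := Q.wd hζ) Q.he (Q.hP hζ) (fun v => ?_) ?_
          · have h2 := Q.T_D hU1 v
            have h3 : z • v = (((-1 : Eˣ)⁻¹ : Eˣ) : E) • v := by
              rw [QD.smul_def, hz]
              have h4 : (-1 : Matrix (Fin 2 ⊕ Fin 2) (Fin 2 ⊕ Fin 2) F).map (algebraMap F E) = -1 := by
                ext i j
                simp only [Matrix.map_apply, Matrix.neg_apply, map_neg, Matrix.one_apply]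
                split_ifs <;> simp
              rw [h4, Matrix.neg_mulVec, Matrix.one_mulVec, inv_neg, inv_one, Units.val_neg, Units.val_one, neg_one_smul]
            rw [h3]
            exact h2
          · have h5 : ∀ η : Eˣ →* ℂˣ, η (-1) = 1 → WD.dd (Q.Pr η) (QD.T (-1 : Eˣ)) = 1 := by
              intro η hη
              rw [WD.dd, Q.T_mul_Pr η hU1, hη, Units.val_one, one_smul, add_sub_cancel, Matrix.det_one]
            change WD.dd (Q.Pr 1) (QD.T (-1 : Eˣ)) / WD.dd (Q.Pr ζ) (QD.T (-1 : Eˣ)) = 1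
            rw [h5 1 rfl, h5 ζ hζ1, div_one]
        rw [h1, Q.T_eS hU1]
    change ((Q.wd hζ).om z * Q.eS).trace = ((Q.wd hζ).om 1 * Q.eS).trace
    rw [hT, WD.om_one (H := Q.wd hζ) Q.he (Q.hP hζ), one_mul]

/-- **`PSp_4(q)`, `r` an odd prime divisor of `q - 1`.** -/
theorem im_psp_two (K : Type u) [Field K] [Finite K] {r : ℕ} (hr : r.Prime) (hr2 : r ≠ 2) (hd : r ∣ Nat.card K - 1) :
    IM (r ^ 2) (PSp 2 K) := by
  classical
  have hq2 : 2 ≤ Nat.card K := Finite.one_lt_card
  obtain ⟨χ, hχ, hχ1, hχz⟩ := exists_theta K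
  obtain ⟨d, hd0, hχd⟩ := Core.isIrr_apply_one hχ
  obtain ⟨η, hη, hη'⟩ := H477.HC.exists_quot (Subgroup.center (Matrix.symplecticGroup (Fin 2) K)) hχ
    (fun z hz => hχz z (Cfsg.Agent.ClassicalGeometry.SympInvolutions.center_eq hz))
  have hη1 : η 1 = (d : ℂ) := by
    have := hη' 1
    rw [QuotientGroup.mk_one] at this
    rw [this, hχd]
  refine IM.of_apply_one hη hη1 ?_
  -- `2 (q+1) d = (q²-1)(q²-q)`
  rw [hχd] at hχ1
  have h1 : 2 * (Nat.card K + 1) * d = Nat.card (GL (Fin 2) K) := by exact_mod_cast hχ1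
  let _ : Fintype K := Fintype.ofFinite K
  rw [Matrix.card_GL_field, Fin.prod_univ_two, ← Nat.card_eq_fintype_card] at h1
  simp only [Fin.val_zero, Fin.val_one, pow_zero, pow_one] at h1
  obtain ⟨m, hm⟩ : ∃ m, Nat.card K = m + 1 := ⟨Nat.card K - 1, by omega⟩
  rw [hm] at h1 hd
  have h2 : (m + 1) ^ 2 - 1 = (m + 2) * m := by
    have : (m + 1) ^ 2 = (m + 2) * m + 1 := by ring
    omega
  have h3 : (m + 1) ^ 2 - (m + 1) = (m + 1) * m := by
    have : (m + 1) ^ 2 = (m + 1) * m + (m + 1) := by ring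
    omega
  rw [h2, h3] at h1
  have h4 : 2 * d = (m + 1) * m ^ 2 := by
    apply Nat.eq_of_mul_eq_mul_left (show 0 < m + 2 by omega)
    linarith
  rw [Nat.add_sub_cancel] at hd
  have h5 : r ^ 2 ∣ 2 * d := by
    rw [h4]
    exact Dvd.dvd.mul_left (pow_dvd_pow_of_dvd hd 2) _
  have h6 : Nat.Coprime (r ^ 2) 2 := by
    apply Nat.Coprime.pow_left
    exact (Nat.coprime_primes hr Nat.prime_two).2 hr2
  exact h6.dvd_of_dvd_mul_left h5

end Cfsg.Agent.H987.PSq
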