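import Cfsg.Agent.H987.PSq.WQuad

/-!
# The projections of the torus `E¹` and the data `WD` (helper987, S4844)
-/

set_option autoImplicit false
set_option linter.unusedSectionVars false

namespace Cfsg.Agent.H987.PSq

open Matrix
open scoped ComplexConjugate ComplexOrder

namespace QD

variable {F E : Type*} [Field F] [Field E] [Algebra F E] (Q : QD F E) [DecidableEq E] [Fintype E]

noncomputable instance : Fintype Q.U := Fintype.ofFinite _

/-- The projection to the `ζ`-eigenspace of `E¹`. -/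
noncomputable def Pr (ζ : Eˣ →* ℂˣ) : Matrix (Fin 2 → E) (Fin 2 → E) ℂ :=
  (Fintype.card Q.U : ℂ)⁻¹ • ∑ u : Q.U, ((ζ u)⁻¹ : ℂˣ).val • T (u : Eˣ)

theorem card_U_ne : (Fintype.card Q.U : ℂ) ≠ 0 := by exact_mod_cast Fintype.card_ne_zero

theorem T_mul_Pr (ζ : Eˣ →* ℂˣ) {w : Eˣ} (hw : w ∈ Q.U) : T w * Q.Pr ζ = (ζ w).val • Q.Pr ζ := by
  have h : T w * ∑ u : Q.U, ((ζ u)⁻¹ : ℂˣ).val • T (u : Eˣ) =
      (ζ w).val • ∑ u : Q.U, ((ζ u)⁻¹ : ℂˣ).val • T (u : Eˣ) := by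
    rw [Finset.mul_sum, Finset.smul_sum]
    refine Fintype.sum_equiv (Equiv.mulLeft (⟨w, hw⟩ : Q.U)) _ _ fun u => ?_
    rw [mul_smul_comm, T_mul, smul_smul]
    change _ = ((ζ w).val * ((ζ (w * (u : Eˣ)))⁻¹ : ℂˣ).val) • T (w * (u : Eˣ))
    congr 1
    rw [← Units.val_mul, map_mul]
    congr 1
    rw [mul_inv, mul_inv_cancel_left]
  rw [Pr, mul_smul_comm, h, smul_comm]

theorem Pr_mul_T (ζ : Eˣ →* ℂˣ) {w : Eˣ} (hw : w ∈ Q.U) : Q.Pr ζ * T w = (ζ w).val • Q.Pr ζ := by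
  rw [← T_mul_Pr Q ζ hw, Pr, mul_smul_comm, smul_mul_assoc, Finset.sum_mul, Finset.mul_sum]
  congr 1
  refine Finset.sum_congr rfl fun u _ => ?_
  rw [smul_mul_assoc, mul_smul_comm, T_mul, T_mul, mul_comm]

theorem Pr_sq (ζ : Eˣ →* ℂˣ) : Q.Pr ζ * Q.Pr ζ = Q.Pr ζ := by
  conv_lhs => rw [Pr, smul_mul_assoc, Finset.sum_mul]
  have h1 : ∀ u : Q.U, (((ζ u)⁻¹ : ℂˣ).val • T (u : Eˣ)) * ((Fintype.card Q.U : ℂ)⁻¹ • ∑ u : Q.U, ((ζ u)⁻¹ : ℂˣ).val • T (u : Eˣ)) =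
      Q.Pr ζ := by
    intro u
    have h2 := T_mul_Pr Q ζ u.2
    rw [smul_mul_assoc]
    change ((ζ u)⁻¹ : ℂˣ).val • (T (u : Eˣ) * Q.Pr ζ) = Q.Pr ζ
    rw [h2, smul_smul, ← Units.val_mul, inv_mul_cancel, Units.val_one, one_smul]
  rw [Finset.sum_congr rfl fun u _ => h1 u, Finset.sum_const, Finset.card_univ, ← Nat.cast_smul_eq_nsmul ℂ, smul_smul,
    inv_mul_cancel₀ Q.card_U_ne, one_smul]

theorem unit_norm (ζ : Eˣ →* ℂˣ) (u : Eˣ) : conj ((ζ u)⁻¹ : ℂˣ).val = (ζ u).val := by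
  have h1 : (ζ u).val ^ Fintype.card Eˣ = 1 := by
    rw [← Units.val_pow_eq_pow_val, ← map_pow, pow_card_eq_one, map_one, Units.val_one]
  have h2 : ‖(ζ u).val‖ = 1 := Complex.norm_eq_one_of_pow_eq_one h1 Fintype.card_ne_zero
  rw [Units.val_inv_eq_inv_val, map_inv₀, Complex.inv_def, Complex.conj_conj, Complex.normSq_conj, Complex.normSq_eq_norm_sq, h2]
  simp

theorem star_Pr (ζ : Eˣ →* ℂˣ) : (Q.Pr ζ)ᴴ = Q.Pr ζ := by
  rw [Pr, conjTranspose_smul, conjTranspose_sum]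
  have h0 : star ((Fintype.card Q.U : ℂ)⁻¹) = (Fintype.card Q.U : ℂ)⁻¹ := by
    change conj ((Fintype.card Q.U : ℂ)⁻¹) = _
    rw [map_inv₀, map_natCast]
  rw [h0]
  congr 1
  refine Fintype.sum_equiv (Equiv.inv Q.U) _ _ fun u => ?_
  rw [conjTranspose_smul, star_T]
  change conj ((ζ u)⁻¹ : ℂˣ).val • T ((u : Eˣ)⁻¹) = ((ζ ((u : Eˣ)⁻¹))⁻¹ : ℂˣ).val • T ((u : Eˣ)⁻¹)
  rw [unit_norm, map_inv, inv_inv]

theorem smul_eq_zero_iff' (u : Eˣ) (x : Fin 2 → E) : (u : E) • x = 0 ↔ x = 0 := by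
  rw [smul_eq_zero]
  exact or_iff_right u.ne_zero

/-- An equivariant function. -/
noncomputable def mz (ζ : Eˣ →* ℂˣ) (x : Fin 2 → E) : ℂ :=
  if h : x 0 ≠ 0 then (ζ (Units.mk0 (x 0) h)).val else if h : x 1 ≠ 0 then (ζ (Units.mk0 (x 1) h)).val else 1

theorem mz_ne (ζ : Eˣ →* ℂˣ) (x : Fin 2 → E) : mz ζ x ≠ 0 := by
  unfold mz
  split_ifs
  · exact Units.ne_zero _
  · exact Units.ne_zero _
  · exact one_ne_zero

theorem mz_zero (ζ : Eˣ →* ℂˣ) : mz ζ (0 : Fin 2 → E) = 1 := by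
  unfold mz
  rw [dif_neg (by simp), dif_neg (by simp)]

theorem mz_smul (ζ : Eˣ →* ℂˣ) (u : Eˣ) {x : Fin 2 → E} (hx : x ≠ 0) :
    mz ζ ((u : E) • x) = (ζ u).val * mz ζ x := by
  unfold mz
  by_cases h0 : x 0 ≠ 0
  · have h0' : ((u : E) • x) 0 ≠ 0 := mul_ne_zero u.ne_zero h0
    rw [dif_pos h0, dif_pos h0', ← Units.val_mul, ← map_mul]
    congr 2
    exact Units.ext rfl
  · have h0' : ¬ ((u : E) • x) 0 ≠ 0 := by
      intro h
      apply h0
      exact right_ne_zero_of_mul h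
    have h1 : x 1 ≠ 0 := by
      intro h1
      apply hx
      funext i
      fin_cases i
      · exact not_not.1 h0
      · exact h1
    have h1' : ((u : E) • x) 1 ≠ 0 := mul_ne_zero u.ne_zero h1
    rw [dif_neg h0, dif_neg h0', dif_pos h1, dif_pos h1', ← Units.val_mul, ← map_mul]
    congr 2
    exact Units.ext rfl

theorem Pr_apply (ζ : Eˣ →* ℂˣ) (x y : Fin 2 → E) : Q.Pr ζ x y =
    (Fintype.card Q.U : ℂ)⁻¹ * ∑ u : Q.U, if y = ((u : Eˣ) : E) • x then ((ζ u)⁻¹ : ℂˣ).val else 0 := by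
  rw [Pr, Matrix.smul_apply, Matrix.sum_apply, smul_eq_mul]
  congr 1
  refine Finset.sum_congr rfl fun u _ => ?_
  rw [Matrix.smul_apply, T, smul_eq_mul, mul_ite, mul_one, mul_zero]

theorem sum_inv_eq_zero {ζ : Eˣ →* ℂˣ} (hζ : ∃ u ∈ Q.U, ζ u ≠ 1) :
    ∑ u : Q.U, ((ζ u)⁻¹ : ℂˣ).val = 0 := by
  obtain ⟨w, hw, hw1⟩ := hζ
  have h1 : ((ζ w)⁻¹ : ℂˣ).val * ∑ u : Q.U, ((ζ u)⁻¹ : ℂˣ).val = ∑ u : Q.U, ((ζ u)⁻¹ : ℂˣ).val := by
    rw [Finset.mul_sum]
    refine Fintype.sum_equiv (Equiv.mulLeft (⟨w, hw⟩ : Q.U)) _ _ fun u => ?_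
    change _ = ((ζ (w * (u : Eˣ)))⁻¹ : ℂˣ).val
    rw [← Units.val_mul, map_mul, mul_inv]
  have h2 : (((ζ w)⁻¹ : ℂˣ).val - 1) * ∑ u : Q.U, ((ζ u)⁻¹ : ℂˣ).val = 0 := by
    rw [sub_mul, h1, one_mul, sub_self]
  refine (mul_eq_zero.1 h2).resolve_left fun h => hw1 ?_
  have h3 : ((ζ w)⁻¹ : ℂˣ) = 1 := Units.ext (sub_eq_zero.1 h)
  exact inv_eq_one.1 h3

theorem det_Pr {ζ : Eˣ →* ℂˣ} (hζ : ∃ u ∈ Q.U, ζ u ≠ 1) (c : ℂ) :
    (c • Q.Pr 1 + (1 - Q.Pr 1)).det = c * (c • Q.Pr ζ + (1 - Q.Pr ζ)).det := by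
  set M : Matrix (Fin 2 → E) (Fin 2 → E) ℂ := Matrix.diagonal (mz ζ) with hM
  set Z : Matrix (Fin 2 → E) (Fin 2 → E) ℂ := Matrix.diagonal (fun x => if x = 0 then 1 else 0) with hZ
  have hc := Q.card_U_ne
  have key : M * Q.Pr 1 = (Q.Pr ζ + Z) * M := by
    ext x y
    rw [hM, Matrix.diagonal_mul, Matrix.mul_diagonal, Matrix.add_apply, Pr_apply, Pr_apply, hZ]
    by_cases hx : x = 0
    · subst hx
      have h1 : ∀ f : Q.U → ℂ, (∑ u : Q.U, if y = ((u : Eˣ) : E) • (0 : Fin 2 → E) then f u else 0) =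
          if y = 0 then ∑ u : Q.U, f u else 0 := by
        intro f
        simp only [smul_zero]
        by_cases hy : y = 0
        · simp only [if_pos hy]
        · simp only [if_neg hy, Finset.sum_const_zero]
      rw [h1, h1, Q.sum_inv_eq_zero hζ]
      by_cases hy : y = 0
      · subst hy
        rw [if_pos rfl, if_pos rfl, Matrix.diagonal_apply_eq, if_pos rfl, mz_zero]
        simp only [MonoidHom.one_apply, inv_one, Units.val_one, Finset.sum_const, Finset.card_univ, nsmul_eq_mul, mul_one]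
        rw [inv_mul_cancel₀ hc]
        ring
      · rw [if_neg hy, if_neg hy, Matrix.diagonal_apply_ne _ (Ne.symm hy)]
        ring
    · have h2 : (Matrix.diagonal (fun x : Fin 2 → E => if x = 0 then (1 : ℂ) else 0)) x y = 0 := by
        by_cases hxy : x = y
        · subst hxy
          rw [Matrix.diagonal_apply_eq, if_neg hx]
        · rw [Matrix.diagonal_apply_ne _ hxy]
      rw [h2, add_zero, mul_left_comm, Finset.mul_sum, mul_assoc, Finset.sum_mul]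
      congr 1
      refine Finset.sum_congr rfl fun u _ => ?_
      by_cases hy : y = ((u : Eˣ) : E) • x
      · rw [if_pos hy, if_pos hy, hy, mz_smul ζ _ hx, ← mul_assoc, ← Units.val_mul, inv_mul_cancel, Units.val_one,
          MonoidHom.one_apply, inv_one, Units.val_one, mul_one, one_mul]
      · rw [if_neg hy, if_neg hy, mul_zero, zero_mul]
  have hPZ : Q.Pr ζ * Z = 0 := by
    ext x y
    rw [hZ, Matrix.mul_diagonal, Matrix.zero_apply]
    by_cases hy : y = 0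
    · subst hy
      rw [if_pos rfl, mul_one, Pr_apply]
      by_cases hx : x = 0
      · subst hx
        simp only [smul_zero, if_true]
        rw [Q.sum_inv_eq_zero hζ, mul_zero]
      · rw [Finset.sum_eq_zero, mul_zero]
        intro u _
        rw [if_neg]
        intro h
        exact hx ((smul_eq_zero_iff' _ _).1 h.symm)
    · rw [if_neg hy, mul_zero]
  have e1 : M * (c • Q.Pr 1 + (1 - Q.Pr 1)) =
      ((c • Q.Pr ζ + (1 - Q.Pr ζ)) * (c • Z + (1 - Z))) * M := by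
    have e2 : (c • Q.Pr ζ + (1 - Q.Pr ζ)) * (c • Z + (1 - Z)) = c • (Q.Pr ζ + Z) + (1 - (Q.Pr ζ + Z)) := by
      simp only [add_mul, mul_add, sub_mul, mul_sub, smul_mul_assoc, mul_smul_comm, hPZ, smul_zero, mul_one, one_mul,
        smul_add, sub_zero, zero_add]
      abel
    rw [e2, add_mul, smul_mul_assoc, sub_mul, one_mul, ← key, mul_add, mul_smul_comm, mul_sub, mul_one]
  have hdM : M.det ≠ 0 := by
    rw [hM, Matrix.det_diagonal]
    exact Finset.prod_ne_zero_iff.2 fun x _ => mz_ne ζ x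
  have hdZ : (c • Z + (1 - Z)).det = c := by
    have h3 : c • Z + (1 - Z) = Matrix.diagonal (fun x : Fin 2 → E => if x = 0 then c else 1) := by
      ext x y
      rw [hZ, Matrix.add_apply, Matrix.smul_apply, Matrix.sub_apply, smul_eq_mul, Matrix.one_apply]
      by_cases hxy : x = y
      · subst hxy
        rw [Matrix.diagonal_apply_eq, Matrix.diagonal_apply_eq, if_pos rfl]
        by_cases hx : x = 0
        · rw [if_pos hx, if_pos hx]; ring
        · rw [if_neg hx, if_neg hx]; ring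
      · rw [Matrix.diagonal_apply_ne _ hxy, Matrix.diagonal_apply_ne _ hxy, if_neg hxy]
        ring
    rw [h3, Matrix.det_diagonal]
    simp [Finset.prod_ite_eq']
  have h4 := congrArg Matrix.det e1
  rw [Matrix.det_mul, Matrix.det_mul, Matrix.det_mul, hdZ] at h4
  apply mul_left_cancel₀ hdM
  rw [h4]
  ring

/-- The data. -/
noncomputable def wd {ζ : Eˣ →* ℂˣ} (hζ : ∃ u ∈ Q.U, ζ u ≠ 1) : WD (Fin 2 ⊕ Fin 2 → E) (Fin 2 → E) where
  D := Q.D
  e := Q.ee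
  D_mul := Q.D_mul
  star_D := Q.star_D
  trace_D := Q.trace_D
  e_norm _ _ := Q.χ_norm _
  comm := Q.comm
  Pa := Q.Pr 1
  Pb := Q.Pr ζ
  Pa_sq := Q.Pr_sq 1
  Pb_sq := Q.Pr_sq ζ
  star_Pa := Q.star_Pr 1
  star_Pb := Q.star_Pr ζ
  det_P := Q.det_Pr hζ

/-! ### The involution -/

/-- The reflection `f ↦ f ∘ σ`. -/
noncomputable def Bm : Matrix (Fin 2 → E) (Fin 2 → E) ℂ := fun x y => if y = (fun i => Q.σ (x i)) then 1 else 0

theorem Bm_mul_apply (A : Matrix (Fin 2 → E) (Fin 2 → E) ℂ) (x y : Fin 2 → E) :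
    (Q.Bm * A) x y = A (fun i => Q.σ (x i)) y := by
  rw [Matrix.mul_apply]
  simp only [Bm, ite_mul, zero_mul, one_mul, Finset.sum_ite_eq', Finset.mem_univ, if_true]

theorem σσ (x : Fin 2 → E) : (fun i => Q.σ ((fun i => Q.σ (x i)) i)) = x := funext fun i => Q.inv (x i)

theorem mul_Bm_apply (A : Matrix (Fin 2 → E) (Fin 2 → E) ℂ) (x y : Fin 2 → E) :
    (A * Q.Bm) x y = A x (fun i => Q.σ (y i)) := by
  rw [Matrix.mul_apply]
  have h : ∀ z : Fin 2 → E, A x z * Q.Bm z y = if z = (fun i => Q.σ (y i)) then A x z else 0 := by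
    intro z
    rw [Bm]
    by_cases hz : z = (fun i => Q.σ (y i))
    · rw [if_pos hz, if_pos (by rw [hz]; exact (Q.σσ y).symm), mul_one]
    · rw [if_neg hz, if_neg (fun h => hz (by rw [h]; exact (Q.σσ z).symm)), mul_zero]
  simp only [h, Finset.sum_ite_eq', Finset.mem_univ, if_true]

theorem Bm_sq : Q.Bm * Q.Bm = 1 := by
  ext x y
  rw [Bm_mul_apply, Bm, Q.σσ, Matrix.one_apply]
  simp only [eq_comm]

theorem star_Bm : (Q.Bm)ᴴ = Q.Bm := by
  ext x y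
  rw [conjTranspose_apply, Bm, Bm]
  by_cases h : y = (fun i => Q.σ (x i))
  · rw [if_pos h, if_pos (by rw [h]; exact (Q.σσ x).symm), star_one]
  · rw [if_neg h, if_neg (fun h' => h (by rw [h']; exact (Q.σσ y).symm)), star_zero]

theorem tau_σσ (x y : Fin 2 → E) : Q.tau (fun i => Q.σ (x i)) (fun i => Q.σ (y i)) = Q.tau y x := by
  simp only [tau, Q.inv]; ring

theorem tau_σ_left (x y : Fin 2 → E) : Q.tau (fun i => Q.σ (x i)) y = Q.tau (fun i => Q.σ (y i)) x := by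
  simp only [tau]; ring

theorem Bm_D (v : Fin 2 ⊕ Fin 2 → E) :
    Q.Bm * Q.D v = conj (Q.ee v v) • (Q.D (fun i => Q.σ (v i)) * Q.Bm) := by
  ext x y
  rw [Bm_mul_apply, Matrix.smul_apply, smul_eq_mul, D_mul_apply, D, Bm]
  have e1 : (fun i => Q.σ ((x + fb (fun i => Q.σ (v i))) i)) = (fun i => Q.σ (x i)) + fb v := by
    funext i
    simp only [Pi.add_apply, fb, map_add, Q.inv]
  rw [e1]
  by_cases h : y = (fun i => Q.σ (x i)) + fb v
  · rw [if_pos h, if_pos h, mul_one, kap, kap, ee, ← AddChar.map_neg_eq_conj, ← AddChar.map_add_eq_mul]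
    congr 1
    simp only [tau, fa, fb, map_add, map_mul, Q.inv]
    ring
  · rw [if_neg h, if_neg h, mul_zero, mul_zero]

theorem Bm_T (u : Eˣ) : Q.Bm * T u = T (Units.map (Q.σ : E →* E) u) * Q.Bm := by
  ext x y
  rw [Bm_mul_apply, T_mul_apply, T, Bm]
  have e1 : (fun i => Q.σ ((((Units.map (Q.σ : E →* E) u : Eˣ) : E) • x) i)) = (u : E) • fun i => Q.σ (x i) := by
    funext i
    simp only [Pi.smul_apply, smul_eq_mul, map_mul, Units.coe_map, MonoidHom.coe_coe, Q.inv]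
  rw [e1]

end QD

end Cfsg.Agent.H987.PSq
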